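import Groth.Agent.EtSite.TopInv
import Mathlib

/-!
# Descent of sections of etale morphisms along submersive morphisms
-/

set_option autoImplicit false
universe u

open CategoryTheory CategoryTheory.Limits AlgebraicGeometry

namespace Groth.Agent.SubmDescent

/-- A section over the source of a surjection descends along it as soon as the morphism stays submersive
after base change to the total space. -/
theorem existsUnique_descent {X' X Z : Scheme.{u}} (g : X' ⟶ X) [Surjective g] (π : Z ⟶ X) [Etale π]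
    (hq : Topology.IsQuotientMap (pullback.fst π g).base)
    (s : X' ⟶ Z) (hs : s ≫ π = g) (hc : pullback.fst g g ≫ s = pullback.snd g g ≫ s) :
    ∃! t : X ⟶ Z, t ≫ π = 𝟙 X ∧ g ≫ t = s := by
  let σ : X' ⟶ pullback π g := pullback.lift s (𝟙 X') (by rw [Category.id_comp, hs])
  have : Etale (pullback.snd π g) := MorphismProperty.pullback_snd _ _ inferInstance
  have : IsOpenImmersion σ := EtSite.isOpenImmersion_of_section (pullback.snd π g) σ (pullback.lift_snd _ _ _)
  have hσ1 : σ ≫ pullback.fst π g = s := pullback.lift_fst _ _ _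
  have hσ2 : σ ≫ pullback.snd π g = 𝟙 X' := pullback.lift_snd _ _ _
  -- a field valued point of the base change lies in the graph when it is a value of `s`
  have key : ∀ (K : Type u) [Field K] (c : Spec (CommRingCat.of K) ⟶ Z) (e : Spec (CommRingCat.of K) ⟶ X')
      (h : c ≫ π = e ≫ g), pullback.lift c e h (IsLocalRing.closedPoint K) ∈ Set.range σ → c = e ≫ s := by
    intro K _ c e h hmem
    have hsub : Set.range (pullback.lift c e h) ⊆ Set.range σ := by
      rintro _ ⟨z, rfl⟩
      rw [@Subsingleton.elim _ (inferInstanceAs (Subsingleton (PrimeSpectrum K))) z (IsLocalRing.closedPoint K)]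
      exact hmem
    let l := IsOpenImmersion.lift σ (pullback.lift c e h) hsub
    have hl : l ≫ σ = pullback.lift c e h := IsOpenImmersion.lift_fac _ _ _
    have h1 : l = e := by
      have := congrArg (· ≫ pullback.snd π g) hl
      rwa [Category.assoc, hσ2, Category.comp_id, pullback.lift_snd] at this
    have h2 := congrArg (· ≫ pullback.fst π g) hl
    rw [Category.assoc, hσ1, pullback.lift_fst] at h2
    rw [← h2, h1]
  -- saturation
  have hsat : ∀ z₁ z₂ : ↑(pullback π g), pullback.fst π g z₁ = pullback.fst π g z₂ →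
      z₁ ∈ Set.range σ → z₂ ∈ Set.range σ := by
    intro z₁ z₂ hz h1
    obtain ⟨v, hv1, hv2⟩ := Scheme.Pullback.exists_preimage_pullback (f := pullback.fst π g)
      (g := pullback.fst π g) z₁ z₂ hz
    let W := pullback (pullback.fst π g) (pullback.fst π g)
    let pt := W.fromSpecResidueField v
    let r₁ := pt ≫ pullback.fst _ _
    let r₂ := pt ≫ pullback.snd _ _
    let c := r₁ ≫ pullback.fst π g
    have hr : r₂ ≫ pullback.fst π g = c := by simp [c, r₁, r₂, pullback.condition]
    let e₁ := r₁ ≫ pullback.snd π g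
    let e₂ := r₂ ≫ pullback.snd π g
    have he1 : c ≫ π = e₁ ≫ g := by simp [c, e₁, pullback.condition]
    have he2 : c ≫ π = e₂ ≫ g := by rw [← hr]; simp [e₂, pullback.condition]
    have hl1 : pullback.lift c e₁ he1 = r₁ := pullback.hom_ext (pullback.lift_fst _ _ _) (pullback.lift_snd _ _ _)
    have hcs : c = e₁ ≫ s := key _ c e₁ he1 (by
      erw [hl1]
      show pullback.fst (pullback.fst π g) (pullback.fst π g) (W.fromSpecResidueField v _) ∈ _
      rw [Scheme.fromSpecResidueField_apply, hv1]; exact h1)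
    have hcs2 : c = e₂ ≫ s := by
      have := congrArg (pullback.lift e₁ e₂ (he1.symm.trans he2) ≫ ·) hc
      simp only [pullback.lift_fst_assoc, pullback.lift_snd_assoc] at this
      rw [hcs, this]
    have hr2 : r₂ = e₂ ≫ σ := by
      apply pullback.hom_ext
      · exact hr.trans (hcs2.trans ((congrArg (e₂ ≫ ·) hσ1).symm.trans (Category.assoc _ _ _).symm))
      · exact ((Category.assoc e₂ σ (pullback.snd π g)).trans ((congrArg (e₂ ≫ ·) hσ2).trans (Category.comp_id _))).symm
    refine ⟨e₂ (IsLocalRing.closedPoint _), ?_⟩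
    rw [← Scheme.Hom.comp_apply, ← hr2]
    show pullback.snd (pullback.fst π g) (pullback.fst π g) (W.fromSpecResidueField v _) = _
    rw [Scheme.fromSpecResidueField_apply, hv2]
  let U₀ : Set Z := pullback.fst π g '' Set.range σ
  have hpre : pullback.fst π g ⁻¹' U₀ = Set.range σ := by
    refine Set.Subset.antisymm ?_ (Set.subset_preimage_image _ _)
    rintro z₂ ⟨z₁, h1, hz⟩
    exact hsat z₁ z₂ hz h1
  let U : Z.Opens := ⟨U₀, by
    show IsOpen U₀
    rw [← hq.isOpen_preimage]
    exact hpre ▸ σ.isOpenEmbedding.isOpen_range⟩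
  let j : (U : Scheme.{u}) ⟶ X := U.ι ≫ π
  have hsU : Set.range s ⊆ Set.range U.ι := by
    rw [Scheme.Opens.range_ι]
    rintro _ ⟨a, rfl⟩
    exact ⟨σ a, ⟨a, rfl⟩, by rw [← Scheme.Hom.comp_apply, pullback.lift_fst]⟩
  let sU := IsOpenImmersion.lift U.ι s hsU
  have hsU' : sU ≫ U.ι = s := IsOpenImmersion.lift_fac _ _ _
  have hsj : sU ≫ j = g := by rw [← hs, ← hsU', Category.assoc]
  have : Surjective j := by
    have : Surjective (sU ≫ j) := hsj ▸ inferInstance
    exact Surjective.of_comp sU j
  have : UniversallyInjective j := by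
    refine ((tfae_universallyInjective j).out 0 1).mpr ?_
    intro K _ c₁ c₂ hc12
    let P := pullback (c₁ ≫ j) g
    obtain ⟨x', hx'⟩ := g.surjective ((c₁ ≫ j) (IsLocalRing.closedPoint K))
    obtain ⟨w, -, -⟩ := Scheme.Pullback.exists_preimage_pullback (f := c₁ ≫ j) (g := g)
      (IsLocalRing.closedPoint K) x' hx'.symm
    let ρ := P.fromSpecResidueField w ≫ pullback.fst (c₁ ≫ j) g
    let e := P.fromSpecResidueField w ≫ pullback.snd (c₁ ≫ j) g
    have hρ : ρ ≫ c₁ ≫ j = e ≫ g := by simp [ρ, e, pullback.condition]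
    have hρ2 : ρ ≫ c₂ ≫ j = e ≫ g := by
      have h12 : c₁ ≫ j = c₂ ≫ j := hc12
      rw [← h12, hρ]
    have hval : ∀ c : Spec (CommRingCat.of K) ⟶ U, ρ ≫ c ≫ j = e ≫ g → (ρ ≫ c) ≫ U.ι = e ≫ s := by
      intro c hcj
      refine key _ ((ρ ≫ c) ≫ U.ι) e (by simp only [Category.assoc]; exact hcj) ?_
      rw [← hpre]
      show pullback.fst π g (pullback.lift _ e _ _) ∈ U₀
      rw [← Scheme.Hom.comp_apply, pullback.lift_fst]
      exact ((ρ ≫ c) _).2
    have : Surjective ρ := ⟨fun z => ⟨IsLocalRing.closedPoint _,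
      @Subsingleton.elim _ (inferInstanceAs (Subsingleton (PrimeSpectrum K))) _ _⟩⟩
    have : Flat ρ := inferInstance
    have : QuasiCompact ρ := inferInstance
    have heq : ρ ≫ c₁ = ρ ≫ c₂ :=
      (cancel_mono U.ι).mp ((hval c₁ hρ).trans (hval c₂ hρ2).symm)
    exact (cancel_epi ρ).mp heq
  have : IsOpenImmersion j := Rigidity.isOpenImmersion_of_etale_of_universallyInjective j
  have : IsIso j := by
    rw [isIso_iff_isOpenImmersion_and_epi_base]
    refine ⟨inferInstance, ?_⟩
    rw [TopCat.epi_iff_surjective]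
    exact j.surjective
  have hsinv : sU = g ≫ inv j := (IsIso.eq_comp_inv j).mpr hsj
  have ht : inv j ≫ U.ι ≫ π = 𝟙 X := IsIso.inv_hom_id j
  refine ⟨inv j ≫ U.ι, ⟨by rw [Category.assoc]; exact ht, by rw [← Category.assoc, ← hsinv, hsU']⟩, ?_⟩
  rintro t ⟨ht1, ht2⟩
  have hrange : Set.range t ⊆ Set.range U.ι := by
    rw [Scheme.Opens.range_ι]
    rintro _ ⟨x, rfl⟩
    obtain ⟨a, rfl⟩ := g.surjective x
    exact ⟨σ a, ⟨a, rfl⟩, by
      rw [← Scheme.Hom.comp_apply, pullback.lift_fst, ← ht2, Scheme.Hom.comp_apply]⟩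
  let t' := IsOpenImmersion.lift U.ι t hrange
  have ht' : t' ≫ U.ι = t := IsOpenImmersion.lift_fac _ _ _
  have : t' = inv j := IsIso.eq_inv_of_inv_hom_id (by
    rw [← Category.assoc, ht', ht1] : t' ≫ j = 𝟙 X)
  rw [← ht', this]

end Groth.Agent.SubmDescent
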